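import Cfsg.Agent.AutSuzuki.Field
import Cfsg.Agent.Suzuki.Borel
import Cfsg.Prelude.Def_KGroupFacts

/-!
# `Out(Sz(q))` consists of the field automorphisms
-/

set_option autoImplicit false
set_option linter.style.haveILetI false

namespace CfsgLib.AutSuzuki

open CfsgLib.Suzuki

local notation "SL4" F:max => Matrix.SpecialLinearGroup (Fin 4) F

variable {F : Type*} [Field F] [Fintype F] {m : ℕ}

theorem fixed_points_torus (hS : SzField F m) {μ : Fˣ} (hμ : μ ≠ 1)
    {p : Projectivization F (Fin 4 → F)} (hp : p ∈ Cfsg.suzukiOvoid F m)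
    (hfix : tor m μ • p = p) :
    p = Cfsg.suzukiPointInfinity F ∨ p = Cfsg.suzukiPointZero F := by
  rcases mem_suzukiOvoid_iff.1 hp with h | ⟨x, y, rfl⟩
  · exact Or.inl h
  right
  rw [tor_smul_aff hS] at hfix
  obtain ⟨h1, h2⟩ := affPt_injective hfix
  have hμ1 : (μ : F) ≠ 1 := fun h => hμ (Units.ext h)
  have hx : x = 0 := (mul_left_eq_self₀.1 h1).resolve_left hμ1
  have hy : y = 0 := (mul_left_eq_self₀.1 h2).resolve_left fun h => hμ1
    (self_mul_θ_injective hS (show (μ : F) * θ m (μ : F) = 1 * θ m (1 : F) by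
      rw [θ_one, mul_one, h]))
  rw [hx, hy, affPt_zero]

theorem exists_conj_preserving (hS : SzField F m) (φ : MulAut (Cfsg.Sz F m)) :
    ∃ g : Cfsg.Sz F m, (∀ u ∈ uniSub hS, (MulAut.conj g * φ) u ∈ uniSub hS) ∧
      ∀ μ : Fˣ, ∃ ν : Fˣ, (MulAut.conj g * φ) (torSz hS μ) = torSz hS ν := by
  haveI : Fact (Nat.Prime 2) := ⟨Nat.prime_two⟩
  have hP : IsPGroup 2 ((uniSub hS).map φ.toMonoidHom : Subgroup (Cfsg.Sz F m)) :=
    (isPGroup_uniSub hS).map _
  obtain ⟨P, hP'⟩ := hP.exists_le_sylow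
  obtain ⟨g₁, hg₁⟩ := MulAction.exists_smul_eq (Cfsg.Sz F m) P (uniSylow hS)
  have hU : ∀ u ∈ uniSub hS, (MulAut.conj g₁ * φ) u ∈ uniSub hS := by
    intro u hu
    have h2 : g₁ * φ u * g₁⁻¹ ∈ ((g₁ • P : Sylow 2 (Cfsg.Sz F m)) : Subgroup (Cfsg.Sz F m)) :=
      ⟨φ u, hP' ⟨u, hu, rfl⟩, rfl⟩
    rw [hg₁, uniSylow_coe] at h2
    exact h2
  set ψ := MulAut.conj g₁ * φ with hψ
  have hUeq : ∀ u ∈ uniSub hS, ∃ u' ∈ uniSub hS, ψ u' = u := by
    intro u hu
    let f : uniSub hS → uniSub hS := fun v => ⟨ψ v, hU v v.2⟩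
    have hf : Function.Injective f := fun a b h =>
      Subtype.ext (ψ.injective (congrArg Subtype.val h))
    obtain ⟨v, hv⟩ := (Finite.surjective_of_injective hf) ⟨u, hu⟩
    exact ⟨v.1, v.2, congrArg Subtype.val hv⟩
  obtain ⟨μ₀, hμ₀⟩ := IsCyclic.exists_generator (α := Fˣ)
  have hμ₀1 : μ₀ ≠ 1 := by
    intro h
    have hall : ∀ x : Fˣ, x = 1 := fun x => by
      obtain ⟨k, hk⟩ := hμ₀ x
      rw [← hk, h]; simp
    have hcard : Nat.card Fˣ = 1 :=
      Nat.card_eq_one_iff_unique.2 ⟨⟨fun a b => by rw [hall a, hall b]⟩, inferInstance⟩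
    rw [Nat.card_units, Nat.card_eq_fintype_card] at hcard
    have := hS.eight_le
    omega
  have hmem : ψ (torSz hS μ₀) ∈ MulAction.stabilizer (Cfsg.Sz F m)
      (Cfsg.suzukiPointInfinity F) := by
    rw [← normalizer_uniSub hS, Subgroup.mem_normalizer_iff]
    have ht : torSz hS μ₀ ∈ Subgroup.normalizer (uniSub hS : Set (Cfsg.Sz F m)) := by
      rw [normalizer_uniSub hS]
      exact torSz_smul_infinity hS μ₀
    intro h
    constructor
    · intro hh
      obtain ⟨u, hu, rfl⟩ := hUeq h hh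
      rw [← map_inv, ← map_mul, ← map_mul]
      exact hU _ ((Subgroup.mem_normalizer_iff.1 ht u).1 hu)
    · intro hh
      obtain ⟨u, hu, hu'⟩ := hUeq _ hh
      have : h = ψ ((torSz hS μ₀)⁻¹ * u * torSz hS μ₀) := by
        rw [map_mul, map_mul, hu', map_inv]; group
      rw [this]
      refine hU _ ?_
      have := (Subgroup.mem_normalizer_iff.1 (inv_mem ht) u).1 hu
      rwa [inv_inv] at this
  obtain ⟨a, b, ν, hν⟩ := pointStab_eq hS hmem
  have hν1 : ν ≠ 1 := by
    intro h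
    rw [h, map_one, mul_one] at hν
    obtain ⟨u, hu, hu'⟩ := hUeq _ (uniEl_mem hS a b)
    have hEq : torSz hS μ₀ = u := ψ.injective (hν.trans hu'.symm)
    obtain ⟨c, d, rfl⟩ := hu
    have := uni_mul_tor_injective hS (a := (0 : F)) (b := 0) (μ := μ₀) (a' := c) (b' := d)
      (μ' := 1) (by
        rw [uni_zero, one_mul, map_one, mul_one]
        exact congrArg Subtype.val hEq)
    exact hμ₀1 this.2.2
  have hν' : (ν : F) ≠ 1 := fun h => hν1 (Units.ext h)
  have hlν : (ν : F) * θ m (ν : F) ≠ 1 := fun h => hν'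
    (self_mul_θ_injective hS (show (ν : F) * θ m (ν : F) = 1 * θ m (1 : F) by
      rw [θ_one, mul_one, h]))
  set x := a / (1 - (ν : F)) with hx
  set y := (b + θ m a * ((ν : F) * x)) / (1 - (ν : F) * θ m (ν : F)) with hy
  have hfix : ((uniEl hS a b * torSz hS ν : Cfsg.Sz F m) : SL4 F) • affPt m x y = affPt m x y := by
    change (uni m a b * tor m ν) • affPt m x y = affPt m x y
    rw [mul_smul, tor_smul_aff hS, uni_smul_aff hS]
    have h1 : (1 : F) - (ν : F) ≠ 0 := sub_ne_zero.2 (Ne.symm hν')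
    have h2 : (1 : F) - (ν : F) * θ m (ν : F) ≠ 0 := sub_ne_zero.2 (Ne.symm hlν)
    congr 1
    · rw [hx]; field_simp; ring
    · rw [hy]; field_simp; ring
  refine ⟨(uniEl hS x y)⁻¹ * g₁, fun u hu => ?_, fun μ => ?_⟩
  · rw [map_mul, mul_assoc, MulAut.mul_apply, MulAut.conj_apply]
    exact mul_mem (mul_mem (inv_mem (uniEl_mem hS x y)) (hU u hu))
      (inv_mem (inv_mem (uniEl_mem hS x y)))
  · rw [map_mul, mul_assoc, ← hψ]
    obtain ⟨k, hk⟩ := hμ₀ μ
    have hgen : ∃ ν', (MulAut.conj (uniEl hS x y)⁻¹ * ψ) (torSz hS μ₀) = torSz hS ν' := by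
      rw [MulAut.mul_apply, hν, MulAut.conj_apply, inv_inv]
      set g := (uniEl hS x y)⁻¹ * (uniEl hS a b * torSz hS ν) * uniEl hS x y
      obtain ⟨ρ, hρ⟩ := two_point_stabilizer hS g.2 (by
        change ((uni m x y)⁻¹ * (uni m a b * tor m ν) * uni m x y) • _ = _
        rw [mul_smul, mul_smul, uni_smul_infinity, mul_smul, tor_smul_infinity,
          uni_smul_infinity, inv_smul_eq_iff, uni_smul_infinity]) (by
        change ((uni m x y)⁻¹ * (uni m a b * tor m ν) * uni m x y) • _ = _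
        rw [mul_smul, mul_smul, uni_smul_zero hS, inv_smul_eq_iff, uni_smul_zero hS]
        exact hfix)
      exact ⟨ρ, Subtype.ext hρ⟩
    obtain ⟨ν', hν'⟩ := hgen
    refine ⟨ν' ^ k, ?_⟩
    rw [← hk, map_zpow, map_zpow, hν', ← map_zpow]

/-- An automorphism that preserves the unipotent subgroup and the torus is a field automorphism
followed by conjugation with a torus element. -/
theorem exists_eq_of_preserving (hS : SzField F m) (φ : MulAut (Cfsg.Sz F m))
    (hU : ∀ u ∈ uniSub hS, φ u ∈ uniSub hS) (hT : ∀ μ : Fˣ, ∃ ν, φ (torSz hS μ) = torSz hS ν) :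
    ∃ (ν : Fˣ) (σ : F ≃+* F), φ = MulAut.conj (torSz hS ν) * fieldAut hS σ := by
  choose χ hχ using hT
  have hcen : ∀ b, ∃ b', φ (uniEl hS 0 b) = uniEl hS 0 b' := by
    intro b
    let u : uniSub hS := ⟨φ (uniEl hS 0 b), hU _ (uniEl_mem hS 0 b)⟩
    have hu : u ∈ Subgroup.center (uniSub hS) := by
      rw [Subgroup.mem_center_iff]
      intro v
      let f : uniSub hS → uniSub hS := fun w => ⟨φ w, hU w w.2⟩
      have hf : Function.Injective f := fun a c h =>
        Subtype.ext (φ.injective (congrArg Subtype.val h))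
      obtain ⟨w, rfl⟩ := (Finite.surjective_of_injective hf) v
      have hb : (⟨uniEl hS 0 b, uniEl_mem hS 0 b⟩ : uniSub hS) ∈ Subgroup.center (uniSub hS) :=
        (mem_center_iff hS _).2 (uniCenter_mem hS b)
      have := Subgroup.mem_center_iff.1 hb w
      apply Subtype.ext
      have h2 := congrArg (fun z : uniSub hS => φ z.1) this
      simpa [u, f] using h2
    exact (mem_center_iff hS u).1 hu
  choose f hf using hcen
  have hfadd : ∀ b b', f (b + b') = f b + f b' := by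
    intro b b'
    have h := map_mul φ (uniEl hS 0 b) (uniEl hS 0 b')
    rw [uniEl_mul, hf b, hf b', uniEl_mul] at h
    simp only [θ_zero, zero_mul, add_zero] at h
    rw [hf] at h
    exact ((uniEl_eq_iff hS).1 h).2
  have hfinj : Function.Injective f := fun b b' h =>
    ((uniEl_eq_iff hS).1 (φ.injective (by rw [hf, hf, h]))).2
  have hf0 : f 0 = 0 := by simpa using hfadd 0 0
  have hconj : ∀ (μ : Fˣ) b, f ((μ : F) * θ m (μ : F) * b) =
      (χ μ : F) * θ m (χ μ : F) * f b := by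
    intro μ b
    have h := congrArg φ (torSz_conj_uniEl hS μ 0 b)
    rw [map_mul, map_mul, map_inv, hχ, hf, torSz_conj_uniEl, mul_zero, mul_zero, hf] at h
    exact ((uniEl_eq_iff hS).1 h).2.symm
  have hf1 : f 1 ≠ 0 := fun h => one_ne_zero (hfinj (h.trans hf0.symm))
  obtain ⟨ν₀, hν₀⟩ := self_mul_θ_surjective hS (f 1)
  simp only at hν₀
  have hν00 : ν₀ ≠ 0 := fun h => hf1 (by rw [← hν₀, h, zero_mul])
  let f' : F → F := fun b => f b / f 1
  have hf'mul : ∀ l b, f' (l * b) = f' l * f' b := by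
    intro l b
    rcases eq_or_ne l 0 with rfl | hl
    · simp [f', hf0]
    obtain ⟨μ, hμ⟩ := self_mul_θ_surjective hS l
    simp only at hμ
    have hμ0 : μ ≠ 0 := fun h => hl (by rw [← hμ, h, zero_mul])
    have h1 := hconj (Units.mk0 μ hμ0) b
    have h2 := hconj (Units.mk0 μ hμ0) 1
    simp only [Units.val_mk0, hμ, mul_one] at h1 h2
    simp only [f', h1, h2]
    field_simp
  let σ : F ≃+* F := RingEquiv.ofBijective
    ({ toFun := f'
       map_one' := div_self hf1
       map_mul' := hf'mul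
       map_zero' := by simp [f', hf0]
       map_add' := fun a b => by simp [f', hfadd, add_div] } : F →+* F)
    (Finite.injective_iff_bijective.1 fun a b h =>
      hfinj ((div_left_inj' hf1).1 h))
  refine ⟨Units.mk0 ν₀ hν00, σ, ?_⟩
  set ν := Units.mk0 ν₀ hν00
  suffices hid : (fieldAut hS σ)⁻¹ * (MulAut.conj (torSz hS ν))⁻¹ * φ = 1 by
    rw [← mul_inv_rev, inv_mul_eq_one] at hid
    exact hid.symm
  set ψ := (fieldAut hS σ)⁻¹ * (MulAut.conj (torSz hS ν))⁻¹ * φ with hψ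
  have hψapp : ∀ g, ψ g = fieldAut hS σ.symm (torSz hS ν⁻¹ * φ g * (torSz hS ν⁻¹)⁻¹) := by
    intro g
    rw [hψ, ← map_inv (fieldAut hS), ← map_inv MulAut.conj, ← map_inv (torSz hS)]
    rfl
  have hlν : (ν : F) * θ m (ν : F) = f 1 := hν₀
  have hψ0 : ∀ b, ψ (uniEl hS 0 b) = uniEl hS 0 b := by
    intro b
    rw [hψapp, hf, torSz_conj_uniEl, mul_zero, fieldAut_uniEl, map_zero, uniEl_eq_iff]
    refine ⟨rfl, σ.symm_apply_eq.2 ?_⟩
    change _ = f b / f 1
    rw [← hlν, Units.val_inv_eq_inv_val, θ_inv]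
    field_simp
  have hψT : ∀ μ, ψ (torSz hS μ) = torSz hS μ := by
    intro μ
    have h1 : ∃ μ', ψ (torSz hS μ) = torSz hS μ' := by
      refine ⟨Units.map σ.symm.toMonoidHom (χ μ), ?_⟩
      rw [hψapp, hχ, map_inv, inv_inv, ← map_inv, ← map_mul, ← map_mul, mul_comm ν⁻¹,
        inv_mul_cancel_right, fieldAut_torSz]
    obtain ⟨μ', hμ'⟩ := h1
    have h2 := congrArg ψ (torSz_conj_uniEl hS μ 0 1)
    rw [map_mul, map_mul, map_inv, hμ', hψ0, torSz_conj_uniEl, mul_zero, mul_zero, hψ0] at h2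
    have h3 := ((uniEl_eq_iff hS).1 h2).2
    simp only [mul_one] at h3
    rw [hμ', Units.ext (self_mul_θ_injective hS h3)]
  have hψU : ∀ a, ∃ g h, ψ (uniEl hS a 0) = uniEl hS g h := by
    intro a
    obtain ⟨c, d, hcd⟩ := hU _ (uniEl_mem hS a 0)
    refine ⟨σ.symm ((ν⁻¹ : Fˣ) * c),
      σ.symm (((ν⁻¹ : Fˣ) : F) * θ m ((ν⁻¹ : Fˣ) : F) * d), ?_⟩
    rw [hψapp, hcd, torSz_conj_uniEl, fieldAut_uniEl]
  choose g h hgh using hψU
  have hscale : ∀ (μ : Fˣ) a, g ((μ : F) * a) = (μ : F) * g a ∧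
      h ((μ : F) * a) = (μ : F) * θ m (μ : F) * h a := by
    intro μ a
    have h1 := congrArg ψ (torSz_conj_uniEl hS μ a 0)
    rw [map_mul, map_mul, map_inv, hψT, hgh, torSz_conj_uniEl, mul_zero, hgh, uniEl_eq_iff] at h1
    exact ⟨h1.1.symm, h1.2.symm⟩
  have hg0 : g 0 = 0 ∧ h 0 = 0 := by
    have h1 := hgh 0
    rw [uniEl_zero, map_one, ← uniEl_zero hS, uniEl_eq_iff] at h1
    exact ⟨h1.1.symm, h1.2.symm⟩
  have hg : ∀ a, g a = a * g 1 ∧ h a = a * θ m a * h 1 := by
    intro a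
    rcases eq_or_ne a 0 with rfl | ha
    · simp [hg0.1, hg0.2]
    · have := hscale (Units.mk0 a ha) 1
      simp only [Units.val_mk0, mul_one] at this
      exact this
  obtain ⟨x, hx0, hx⟩ := exists_θ_ne hS
  have hxne : θ m x + x ≠ 0 := by
    haveI := hS.charP
    exact fun he => hx (CharTwo.add_eq_zero.1 he)
  have hc : g 1 = 1 := by
    have h1 := congrArg ψ (uniEl_comm hS 1 0 x 0)
    rw [map_mul, map_mul, map_mul, map_inv, map_inv, hgh, hgh, hψ0, uniEl_comm,
      uniEl_eq_iff] at h1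
    obtain ⟨-, h1⟩ := h1
    simp only [θ_one, one_mul, mul_one] at h1
    rw [(hg x).1, θ_mul] at h1
    have h2 : g 1 * θ m (g 1) = 1 := mul_right_cancel₀ hxne (by linear_combination h1)
    exact self_mul_θ_injective hS (show g 1 * θ m (g 1) = 1 * θ m (1 : F) by
      rw [h2, θ_one, one_mul])
  have hd : h 1 = 0 := by
    have e := uniEl_mul hS 1 0 x 0
    simp only [add_zero, zero_add, θ_one, one_mul] at e
    have e2 := uniEl_mul hS (1 + x) 0 0 x
    simp only [add_zero, zero_add, mul_zero] at e2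
    have h1 := congrArg ψ (e.trans e2.symm)
    rw [map_mul, map_mul, hgh, hgh, hgh, hψ0, uniEl_mul, uniEl_mul, uniEl_eq_iff] at h1
    obtain ⟨-, h1⟩ := h1
    rw [(hg x).1, hc, (hg x).2, (hg (1 + x)).1, (hg (1 + x)).2, hc, θ_add hS, θ_one] at h1
    have h2 : (θ m x + x) * h 1 = 0 := by linear_combination -h1
    exact (mul_eq_zero.1 h2).resolve_left hxne
  have hψuni : ∀ a b, ψ (uniEl hS a b) = uniEl hS a b := by
    intro a b
    have e : uniEl hS a b = uniEl hS a 0 * uniEl hS 0 b := by rw [uniEl_mul]; simp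
    rw [e, map_mul, hgh, hψ0, (hg a).1, (hg a).2, hc, hd]
    simp
  have hψstab : ∀ k : Cfsg.Sz F m,
      (k : SL4 F) • Cfsg.suzukiPointInfinity F = Cfsg.suzukiPointInfinity F → ψ k = k := by
    intro k hk
    obtain ⟨a, b, μ, rfl⟩ := pointStab_eq hS hk
    rw [map_mul, hψuni, hψT]
  set w' := ψ (weylEl hS) with hw'
  have hwinf : (w' : SL4 F) • Cfsg.suzukiPointInfinity F ≠ Cfsg.suzukiPointInfinity F := by
    intro hk
    have e : w' = weylEl hS := ψ.injective ((hψstab w' hk).trans hw')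
    rw [e] at hk
    exact infinity_ne_zero (hk.symm.trans weyl_smul_infinity)
  have hinv : ∀ μ : Fˣ, w' * torSz hS μ * w'⁻¹ = torSz hS μ⁻¹ := by
    intro μ
    have e : weylEl hS * torSz hS μ * (weylEl hS)⁻¹ = torSz hS μ⁻¹ := by
      refine Subtype.ext ?_
      change weyl * tor m μ * weyl⁻¹ = tor m μ⁻¹
      rw [inv_eq_of_mul_eq_one_left weyl_mul_weyl, weyl_conj_tor]
    have := congrArg ψ e
    rwa [map_mul, map_mul, map_inv, hψT, hψT] at this
  obtain ⟨μ₁, hμ₁⟩ : ∃ μ : Fˣ, μ ≠ 1 :=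
    ⟨Units.mk0 x hx0, fun he => hx (by
      have : x = 1 := congrArg Units.val he
      rw [this, θ_one])⟩
  have hperm : ∀ p, p ∈ Cfsg.suzukiOvoid F m → (tor m μ₁) • p = p →
      (w' : SL4 F) • p = Cfsg.suzukiPointInfinity F ∨
        (w' : SL4 F) • p = Cfsg.suzukiPointZero F := by
    intro p hp hfix
    refine fixed_points_torus hS (inv_ne_one.2 hμ₁) ((MulAction.mem_stabilizer_set.1 w'.2 _).2 hp) ?_
    have h1 : tor m μ₁⁻¹ = (w' : SL4 F) * tor m μ₁ * (w' : SL4 F)⁻¹ :=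
      (congrArg Subtype.val (hinv μ₁)).symm
    rw [h1, mul_smul, mul_smul, inv_smul_smul, hfix]
  have hwi := (hperm _ infinity_mem (tor_smul_infinity μ₁)).resolve_left hwinf
  have hwz : (w' : SL4 F) • Cfsg.suzukiPointZero F = Cfsg.suzukiPointInfinity F :=
    (hperm _ zero_mem (tor_smul_zero hS μ₁)).resolve_right fun hk =>
      infinity_ne_zero ((smul_left_cancel_iff (w' : SL4 F)).1 (hwi.trans hk.symm))
  obtain ⟨τ, hτ⟩ := two_point_stabilizer hS (g := ((weylEl hS)⁻¹ * w' : Cfsg.Sz F m).1)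
    ((weylEl hS)⁻¹ * w').2
    (by
      change (weyl⁻¹ * (w' : SL4 F)) • _ = _
      rw [mul_smul, hwi, inv_smul_eq_iff, weyl_smul_infinity])
    (by
      change (weyl⁻¹ * (w' : SL4 F)) • _ = _
      rw [mul_smul, hwz, inv_smul_eq_iff, weyl_smul_zero])
  have hwτ : w' = weylEl hS * torSz hS τ := by
    rw [← inv_mul_eq_iff_eq_mul]
    exact Subtype.ext hτ
  set e := (uniEl hS 1 0 * weylEl hS)⁻¹ * (weylEl hS * uniEl hS 0 1 * weylEl hS) with he
  have haff : (weyl : SL4 F) • affPt m (0 : F) 1 = affPt m 1 0 := by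
    rw [weyl_smul_aff hS (Or.inr one_ne_zero)]
    simp [szF]
  have heinf : (e : SL4 F) • Cfsg.suzukiPointInfinity F = Cfsg.suzukiPointInfinity F := by
    change ((uni m 1 0 * weyl)⁻¹ * (weyl * uni m 0 1 * weyl)) • _ = _
    rw [mul_smul, mul_smul, mul_smul, weyl_smul_infinity, uni_smul_zero hS, haff, inv_smul_eq_iff,
      mul_smul, weyl_smul_infinity, uni_smul_zero hS]
  have heq : weylEl hS * uniEl hS 0 1 * weylEl hS = uniEl hS 1 0 * weylEl hS * e := by
    rw [he, mul_inv_cancel_left]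
  have h1 := congrArg (fun k => ((ψ k : Cfsg.Sz F m) : SL4 F) • Cfsg.suzukiPointInfinity F) heq
  simp only [map_mul, hψuni, hψstab e heinf, ← hw', hwτ] at h1
  change ((weyl * tor m τ) * uni m 0 1 * (weyl * tor m τ)) • _ =
    (uni m 1 0 * (weyl * tor m τ) * (e : SL4 F)) • _ at h1
  simp only [mul_smul, tor_smul_infinity, weyl_smul_infinity, uni_smul_zero hS, heinf,
    tor_smul_aff hS, mul_zero, mul_one] at h1
  have hl : (τ : F) * θ m (τ : F) ≠ 0 :=
    mul_ne_zero τ.ne_zero fun hz => τ.ne_zero (θ_eq_zero.1 hz)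
  rw [weyl_smul_aff hS (Or.inr hl)] at h1
  obtain ⟨h2, -⟩ := affPt_injective h1
  simp only [szF, zero_mul, zero_pow (by norm_num : (2 : ℕ) ≠ 0), zero_add] at h2
  have hl1 : (τ : F) * θ m (τ : F) = 1 := by
    rw [div_eq_one_iff_eq (fun hz => hl (θ_eq_zero.1 hz))] at h2
    rcases θ_fixed hS h2.symm with h3 | h3
    · exact absurd h3 hl
    · exact h3
  have hτ1 : τ = 1 := Units.ext (self_mul_θ_injective hS
    (show (τ : F) * θ m (τ : F) = 1 * θ m (1 : F) by rw [hl1, θ_one, one_mul]))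
  have hψw : ψ (weylEl hS) = weylEl hS := by rw [← hw', hwτ, hτ1, map_one, mul_one]
  ext k
  rcases bruhat hS k with ⟨a, b, μ, rfl⟩ | ⟨p, r, a, b, μ, rfl⟩ <;>
    simp only [map_mul, hψuni, hψT, hψw, MulAut.one_apply]

/-- Field automorphisms, modulo inner automorphisms. -/
def fieldOut (hS : SzField F m) : (F ≃+* F) →* Cfsg.Out (Cfsg.Sz F m) :=
  (QuotientGroup.mk' (Cfsg.Inn (Cfsg.Sz F m))).comp (fieldAut hS)

theorem fieldOut_bijective (hS : SzField F m) : Function.Bijective (fieldOut (F := F) hS) := by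
  constructor
  · rw [injective_iff_map_eq_one]
    intro σ hσ
    rw [fieldOut, MonoidHom.comp_apply, QuotientGroup.mk'_apply, QuotientGroup.eq_one_iff] at hσ
    obtain ⟨g, hg⟩ := hσ
    have hgi : (g : SL4 F) • Cfsg.suzukiPointInfinity F = Cfsg.suzukiPointInfinity F := by
      have : g ∈ Subgroup.normalizer (uniSub hS : Set (Cfsg.Sz F m)) := by
        rw [Subgroup.mem_normalizer_iff]
        intro k
        have e : g * k * g⁻¹ = fieldAut hS σ k := DFunLike.congr_fun hg k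
        rw [e]
        constructor
        · rintro ⟨a, b, rfl⟩
          exact ⟨σ a, σ b, fieldAut_uniEl hS σ a b⟩
        · rintro ⟨a, b, e'⟩
          refine ⟨σ.symm a, σ.symm b, (fieldAut hS σ).injective ?_⟩
          rw [e', fieldAut_uniEl, σ.apply_symm_apply, σ.apply_symm_apply]
      rw [normalizer_uniSub hS] at this
      exact this
    obtain ⟨x, hx0, hx⟩ := exists_θ_ne hS
    set μ := Units.mk0 x hx0
    have hμ1 : μ ≠ 1 := fun he => hx (by
      have : x = 1 := congrArg Units.val he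
      rw [this, θ_one])
    have hgz : (g : SL4 F) • Cfsg.suzukiPointZero F = Cfsg.suzukiPointZero F := by
      have hσμ : Units.map σ.toMonoidHom μ ≠ 1 := fun he => hμ1
        (Units.map_injective σ.injective (he.trans (map_one _).symm))
      refine (fixed_points_torus hS hσμ ((MulAction.mem_stabilizer_set.1 g.2 _).2 zero_mem)
        ?_).resolve_left fun he => infinity_ne_zero
          ((smul_left_cancel_iff (g : SL4 F)).1 (hgi.trans he.symm))
      have e : g * torSz hS μ * g⁻¹ = fieldAut hS σ (torSz hS μ) := DFunLike.congr_fun hg _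
      rw [fieldAut_torSz] at e
      have e' : tor m (Units.map σ.toMonoidHom μ) = (g : SL4 F) * tor m μ * (g : SL4 F)⁻¹ :=
        (congrArg Subtype.val e).symm
      rw [e', mul_smul, mul_smul, inv_smul_smul, tor_smul_zero hS]
    obtain ⟨ν, hν⟩ := two_point_stabilizer hS g.2 hgi hgz
    have hg' : g = torSz hS ν := Subtype.ext hν
    have key : ∀ b, (ν : F) * θ m (ν : F) * b = σ b := by
      intro b
      have e : g * uniEl hS 0 b * g⁻¹ = fieldAut hS σ (uniEl hS 0 b) := DFunLike.congr_fun hg _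
      rw [fieldAut_uniEl, hg', torSz_conj_uniEl, uniEl_eq_iff] at e
      exact e.2
    have h1 := key 1
    rw [map_one, mul_one] at h1
    exact RingEquiv.ext fun b => by
      rw [← key b, h1, one_mul]; rfl
  · intro x
    obtain ⟨φ, rfl⟩ := QuotientGroup.mk'_surjective (Cfsg.Inn (Cfsg.Sz F m)) x
    obtain ⟨g, hU, hT⟩ := exists_conj_preserving hS φ
    obtain ⟨ν, σ, h⟩ := exists_eq_of_preserving hS _ hU hT
    refine ⟨σ, ?_⟩
    have hφ : φ = MulAut.conj (g⁻¹ * torSz hS ν) * fieldAut hS σ := by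
      rw [map_mul, map_inv, mul_assoc, ← h, inv_mul_cancel_left]
    rw [hφ, map_mul]
    have hone : QuotientGroup.mk' (Cfsg.Inn (Cfsg.Sz F m))
        (MulAut.conj (g⁻¹ * torSz hS ν)) = 1 := (QuotientGroup.eq_one_iff _).2 ⟨_, rfl⟩
    rw [hone, one_mul]
    rfl

theorem card_out_sz (hS : SzField F m) : Nat.card (Cfsg.Out (Cfsg.Sz F m)) = 2 * m + 1 := by
  rw [← card_ringAut hS]
  exact (Nat.card_eq_of_bijective _ (fieldOut_bijective hS)).symm

/-- Isomorphic groups have outer automorphism groups of the same order. -/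
theorem card_out_congr {G H : Type*} [Group G] [Group H] (e : G ≃* H) :
    Nat.card (Cfsg.Out G) = Nat.card (Cfsg.Out H) := by
  refine Nat.card_congr (QuotientGroup.congr (Cfsg.Inn G) (Cfsg.Inn H) (MulAut.congr e) ?_).toEquiv
  have key : ∀ g, MulAut.congr e (MulAut.conj g) = MulAut.conj (e g) := fun g => by
    ext x
    simp [MulAut.congr]
  ext φ
  constructor
  · rintro ⟨_, ⟨g, rfl⟩, rfl⟩
    exact ⟨e g, (key g).symm⟩
  · rintro ⟨g, rfl⟩
    exact ⟨_, ⟨e.symm g, rfl⟩, by simpa using key (e.symm g)⟩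

end CfsgLib.AutSuzuki
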