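import Cfsg.Agent.Suzuki.Unipotent

/-!
# Field automorphisms of `Sz(q)`
-/

set_option autoImplicit false
set_option linter.style.haveILetI false

namespace CfsgLib.AutSuzuki

open CfsgLib.Suzuki

local notation "SL4" F:max => Matrix.SpecialLinearGroup (Fin 4) F

variable {F : Type*} [Field F] [Fintype F] {m : ℕ}

theorem map_θ (σ : F ≃+* F) (x : F) : σ (θ m x) = θ m (σ x) := map_pow σ x _

theorem map_uni (σ : F ≃+* F) (a b : F) :
    Matrix.SpecialLinearGroup.map σ.toRingHom (uni m a b) = uni m (σ a) (σ b) := by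
  apply Subtype.ext
  ext i j
  fin_cases i <;> fin_cases j <;> simp [uni_val, uniMat, szF, map_θ]

theorem map_tor (σ : F ≃+* F) (μ : Fˣ) :
    Matrix.SpecialLinearGroup.map σ.toRingHom (tor m μ) = tor m (Units.map σ.toMonoidHom μ) := by
  apply Subtype.ext
  ext i j
  fin_cases i <;> fin_cases j <;> simp [tor_val, torMat, map_pow, map_inv₀]

theorem map_weyl (σ : F ≃+* F) :
    Matrix.SpecialLinearGroup.map σ.toRingHom (weyl : SL4 F) = weyl := by
  apply Subtype.ext
  ext i j
  fin_cases i <;> fin_cases j <;> simp [weyl_val, weylMat]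

theorem map_mem (hS : SzField F m) (σ : F ≃+* F) {g : SL4 F} (hg : g ∈ Cfsg.Sz F m) :
    Matrix.SpecialLinearGroup.map σ.toRingHom g ∈ Cfsg.Sz F m := by
  rcases bruhat hS ⟨g, hg⟩ with ⟨a, b, μ, e⟩ | ⟨x, y, a, b, μ, e⟩
  · have e' : g = uni m a b * tor m μ := congrArg Subtype.val e
    rw [e', map_mul, map_uni, map_tor]
    exact mul_mem (uni_mem hS _ _) (tor_mem hS _)
  · have e' : g = uni m x y * weyl * (uni m a b * tor m μ) := congrArg Subtype.val e
    rw [e', map_mul, map_mul, map_mul, map_uni, map_uni, map_weyl, map_tor]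
    exact mul_mem (mul_mem (uni_mem hS _ _) (weyl_mem hS))
      (mul_mem (uni_mem hS _ _) (tor_mem hS _))

/-- A field automorphism as an endomorphism of `Sz(q)`. -/
def fieldHom (hS : SzField F m) (σ : F ≃+* F) : Cfsg.Sz F m →* Cfsg.Sz F m where
  toFun g := ⟨Matrix.SpecialLinearGroup.map σ.toRingHom g.1, map_mem hS σ g.2⟩
  map_one' := Subtype.ext (map_one _)
  map_mul' a b := Subtype.ext (map_mul _ a.1 b.1)

theorem fieldHom_trans (hS : SzField F m) (σ τ : F ≃+* F) (g : Cfsg.Sz F m) :
    fieldHom hS σ (fieldHom hS τ g) = fieldHom hS (τ.trans σ) g := by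
  apply Subtype.ext
  apply Subtype.ext
  ext i j
  rfl

theorem fieldHom_refl (hS : SzField F m) (g : Cfsg.Sz F m) :
    fieldHom hS (RingEquiv.refl F) g = g := by
  apply Subtype.ext
  apply Subtype.ext
  ext i j
  rfl

/-- Field automorphisms act on `Sz(q)`. -/
def fieldAut (hS : SzField F m) : (F ≃+* F) →* MulAut (Cfsg.Sz F m) where
  toFun σ := MonoidHom.toMulEquiv (fieldHom hS σ) (fieldHom hS σ.symm)
    (MonoidHom.ext fun g => by
      rw [MonoidHom.comp_apply, fieldHom_trans, RingEquiv.self_trans_symm, fieldHom_refl]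
      rfl)
    (MonoidHom.ext fun g => by
      rw [MonoidHom.comp_apply, fieldHom_trans, RingEquiv.symm_trans_self, fieldHom_refl]
      rfl)
  map_one' := MulEquiv.ext fun g => fieldHom_refl hS g
  map_mul' σ τ := MulEquiv.ext fun g => (fieldHom_trans hS σ τ g).symm

theorem fieldAut_uniEl (hS : SzField F m) (σ : F ≃+* F) (a b : F) :
    fieldAut hS σ (uniEl hS a b) = uniEl hS (σ a) (σ b) :=
  Subtype.ext (map_uni σ a b)

theorem fieldAut_torSz (hS : SzField F m) (σ : F ≃+* F) (μ : Fˣ) :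
    fieldAut hS σ (torSz hS μ) = torSz hS (Units.map σ.toMonoidHom μ) :=
  Subtype.ext (map_tor σ μ)

theorem card_ringAut (hS : SzField F m) : Nat.card (F ≃+* F) = 2 * m + 1 := by
  haveI := hS.charP
  haveI : Fact (Nat.Prime 2) := ⟨Nat.prime_two⟩
  letI : Algebra (ZMod 2) F := ZMod.algebra F 2
  let e : (F ≃ₐ[ZMod 2] F) ≃ (F ≃+* F) :=
    { toFun := fun f => f.toRingEquiv
      invFun := fun f => AlgEquiv.ofRingEquiv (f := f) fun c =>
        DFunLike.congr_fun (Subsingleton.elim ((f.toRingHom).comp (algebraMap (ZMod 2) F))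
          (algebraMap (ZMod 2) F)) c
      left_inv := fun f => AlgEquiv.ext fun _ => rfl
      right_inv := fun f => RingEquiv.ext fun _ => rfl }
  rw [← Nat.card_congr e, IsGalois.card_aut_eq_finrank]
  have h := Module.card_eq_pow_finrank (K := ZMod 2) (V := F)
  rw [ZMod.card, hS.card_eq] at h
  exact (Nat.pow_right_injective (le_refl 2) h).symm

end CfsgLib.AutSuzuki
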